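import Mathlib
import Cfsg.Agent.Lib.Coprime.Coset
import Cfsg.Agent.Lib.Coprime.Generation
import Cfsg.Agent.Lib.Thompson.Main
import Cfsg.Agent.Lib.Nilpotent.Elements

/-!
# The group-theoretic setting of Ward's theorem

`A` is an elementary abelian group of order `p²`, `G` is a solvable `p'`-group normalised by `A`,
and `C_G(A) = 1`; all inside an ambient finite group `X`.
-/

set_option autoImplicit false
set_option linter.unusedSectionVars false
set_option linter.style.haveILetI false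
set_option linter.dupNamespace false

namespace Cfsg.Agent.Lib.Ward

open Cfsg.Agent.Lib.Coprime

universe u

variable {X : Type u} [Group X]

theorem conj_mem_of_norm {A K : Subgroup X} (h : A ≤ Subgroup.normalizer (K : Set X)) {a g : X}
    (ha : a ∈ A) (hg : g ∈ K) : a * g * a⁻¹ ∈ K :=
  (Subgroup.mem_normalizer_iff.mp (h ha) g).mp hg

theorem conj_inv_mem_of_norm {A K : Subgroup X} (h : A ≤ Subgroup.normalizer (K : Set X)) {a g : X}
    (ha : a ∈ A) (hg : g ∈ K) : a⁻¹ * g * a ∈ K := by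
  have := conj_mem_of_norm h (A.inv_mem ha) hg
  simpa using this

theorem mem_norm_of_conj {K : Subgroup X} {g : X} (h1 : ∀ x ∈ K, g * x * g⁻¹ ∈ K)
    (h2 : ∀ x ∈ K, g⁻¹ * x * g ∈ K) : g ∈ Subgroup.normalizer (K : Set X) := by
  refine Subgroup.mem_normalizer_iff.mpr fun x => ⟨h1 x, fun hx => ?_⟩
  have := h2 _ hx
  simpa [mul_assoc] using this

theorem norm_inf {A K L : Subgroup X} (h1 : A ≤ Subgroup.normalizer (K : Set X))
    (h2 : A ≤ Subgroup.normalizer (L : Set X)) : A ≤ Subgroup.normalizer ((K ⊓ L : Subgroup X) : Set X) := by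
  intro a ha
  exact mem_norm_of_conj
    (fun x hx => ⟨conj_mem_of_norm h1 ha hx.1, conj_mem_of_norm h2 ha hx.2⟩)
    (fun x hx => ⟨conj_inv_mem_of_norm h1 ha hx.1, conj_inv_mem_of_norm h2 ha hx.2⟩)

/-- The conjugation action on the lower central series. -/
theorem lcs_conj_mem {S : Subgroup X} {g : X} (h : ∀ x ∈ S, g * x * g⁻¹ ∈ S) (n : ℕ) :
    ∀ x ∈ S.lowerCentralSeries n, g * x * g⁻¹ ∈ S.lowerCentralSeries n := by
  have h1 : (S.lowerCentralSeries n).map (MulAut.conj g).toMonoidHom ≤ S.lowerCentralSeries n := by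
    rw [Subgroup.map_lowerCentralSeries]
    refine Subgroup.lowerCentralSeries_mono n ?_
    rintro _ ⟨x, hx, rfl⟩
    exact h x hx
  intro x hx
  exact h1 ⟨x, hx, rfl⟩

theorem lcs_norm {A S : Subgroup X} (h : A ≤ Subgroup.normalizer (S : Set X)) (n : ℕ) :
    A ≤ Subgroup.normalizer ((S.lowerCentralSeries n : Subgroup X) : Set X) := by
  intro a ha
  refine mem_norm_of_conj (lcs_conj_mem (fun x hx => conj_mem_of_norm h ha hx) n) ?_
  intro x hx
  have := lcs_conj_mem (g := a⁻¹) (fun x hx => conj_mem_of_norm h (A.inv_mem ha) hx) n x hx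
  simpa using this

/-- Stabiliser of the coset `t N`: a subgroup of the normaliser of `N`. -/
def cosetStab (N : Subgroup X) (t : X) : Subgroup X where
  carrier := {g | g ∈ Subgroup.normalizer (N : Set X) ∧ t⁻¹ * (g * t * g⁻¹) ∈ N}
  mul_mem' := by
    rintro g h ⟨hg1, hg2⟩ ⟨hh1, hh2⟩
    refine ⟨mul_mem hg1 hh1, ?_⟩
    have e : t⁻¹ * (g * h * t * (g * h)⁻¹) = (t⁻¹ * (g * t * g⁻¹)) * (g * (t⁻¹ * (h * t * h⁻¹)) * g⁻¹) := by
      group
    rw [e]
    exact N.mul_mem hg2 ((Subgroup.mem_normalizer_iff.mp hg1 _).mp hh2)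
  one_mem' := ⟨one_mem _, by simp⟩
  inv_mem' := by
    rintro g ⟨hg1, hg2⟩
    refine ⟨inv_mem hg1, ?_⟩
    have e : t⁻¹ * (g⁻¹ * t * g⁻¹⁻¹) = g⁻¹ * (t⁻¹ * (g * t * g⁻¹))⁻¹ * g := by group
    rw [e]
    have h3 := N.inv_mem hg2
    have := (Subgroup.mem_normalizer_iff.mp (inv_mem hg1) _).mp h3
    simpa using this

/-- The setting of Ward's theorem. -/
structure Ward (A G : Subgroup X) (p : ℕ) : Prop where
  prime : p.Prime
  comm : ∀ a ∈ A, ∀ b ∈ A, a * b = b * a
  pow : ∀ a ∈ A, a ^ p = 1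
  card : Nat.card A = p ^ 2
  norm : A ≤ Subgroup.normalizer (G : Set X)
  cop : ¬ p ∣ Nat.card G
  solv : Group.IsSolvable G
  fpf : ∀ g ∈ G, (∀ a ∈ A, a * g * a⁻¹ = g) → g = 1

namespace Ward

variable {A G : Subgroup X} {p : ℕ}

theorem fact (hW : Ward A G p) : Fact p.Prime := ⟨hW.prime⟩

theorem isMulCommutative (hW : Ward A G p) : IsMulCommutative A :=
  ⟨⟨fun a b => Subtype.ext (hW.comm a a.2 b b.2)⟩⟩

theorem solvA (hW : Ward A G p) : Group.IsSolvable A := by
  exact Group.isSolvable_of_comm (fun a b => Subtype.ext (hW.comm a a.2 b b.2))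

theorem orderOf_eq (hW : Ward A G p) {c : X} (hc : c ∈ A) (hc1 : c ≠ 1) : orderOf c = p := by
  haveI := hW.fact
  exact orderOf_eq_prime (hW.pow c hc) hc1

theorem coprime (hW : Ward A G p) {K : Subgroup X} [Finite X] (hK : K ≤ G) :
    (Nat.card A).Coprime (Nat.card K) := by
  rw [hW.card]
  refine Nat.Coprime.pow_left 2 ((Nat.Prime.coprime_iff_not_dvd hW.prime).mpr ?_)
  intro h
  exact hW.cop (h.trans (Subgroup.card_dvd_of_le hK))

theorem orderOf_coprime (hW : Ward A G p) [Finite X] {x : X} (hx : x ∈ G) :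
    (orderOf x).Coprime p := by
  refine Nat.Coprime.symm ((Nat.Prime.coprime_iff_not_dvd hW.prime).mpr ?_)
  intro h
  exact hW.cop (h.trans (Subgroup.orderOf_dvd_natCard G hx))

theorem exists_not_mem (hW : Ward A G p) [Finite X] {c : X} (hc : c ∈ A) :
    ∃ d ∈ A, d ∉ Subgroup.zpowers c := by
  by_contra h
  push Not at h
  have h1 : A ≤ Subgroup.zpowers c := h
  have h2 := Subgroup.card_dvd_of_le h1
  rw [hW.card, Nat.card_zpowers] at h2
  have h3 : orderOf c ∣ p := orderOf_dvd_of_pow_eq_one (hW.pow c hc)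
  have h4 := h2.trans h3
  have h5 := Nat.le_of_dvd hW.prime.pos h4
  have h6 := hW.prime.two_le
  nlinarith

/-- Two independent elements of `A` generate `A`. -/
theorem le_of_mem_of_mem (hW : Ward A G p) [Finite X] {c d : X} (hc : c ∈ A) (hc1 : c ≠ 1) (hd : d ∈ A)
    (hdc : d ∉ Subgroup.zpowers c) {S : Subgroup X} (hcS : c ∈ S) (hdS : d ∈ S) : A ≤ S := by
  haveI := hW.fact
  set T : Subgroup X := Subgroup.zpowers c ⊔ Subgroup.zpowers d with hT
  have hTA : T ≤ A := sup_le (Subgroup.zpowers_le.mpr hc) (Subgroup.zpowers_le.mpr hd)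
  have hTS : T ≤ S := sup_le (Subgroup.zpowers_le.mpr hcS) (Subgroup.zpowers_le.mpr hdS)
  have hcT : Subgroup.zpowers c ≤ T := le_sup_left
  have hdT : d ∈ T := (le_sup_right : Subgroup.zpowers d ≤ T) (Subgroup.mem_zpowers d)
  have h1 : Nat.card T ∣ p ^ 2 := hW.card ▸ Subgroup.card_dvd_of_le hTA
  have h2 : p ∣ Nat.card T := by
    have := Subgroup.card_dvd_of_le hcT
    rwa [Nat.card_zpowers, hW.orderOf_eq hc hc1] at this
  obtain ⟨j, hj, hj2⟩ := (Nat.dvd_prime_pow hW.prime).1 h1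
  have hcardc : Nat.card (Subgroup.zpowers c) = p := by
    rw [Nat.card_zpowers, hW.orderOf_eq hc hc1]
  have hj3 : j = 2 := by
    interval_cases j
    · rw [hj2] at h2
      simp at h2
      exact absurd h2 hW.prime.one_lt.ne'
    · exfalso
      have : Subgroup.zpowers c = T :=
        Subgroup.eq_of_le_of_card_ge hcT (by rw [hcardc, hj2, pow_one])
      exact hdc (this ▸ hdT)
    · rfl
  have hTeq : T = A := Subgroup.eq_of_le_of_card_ge hTA (by rw [hW.card, hj2, hj3])
  exact hTeq ▸ hTS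

/-- The same, as a statement about subgroups of `A`: a subgroup which is not `A` and contains
`c ≠ 1` is contained in `⟨c⟩`. -/
theorem mem_zpowers_of_not_le (hW : Ward A G p) [Finite X] {c d : X} (hc : c ∈ A) (hc1 : c ≠ 1) (hd : d ∈ A)
    {S : Subgroup X} (hcS : c ∈ S) (hdS : d ∈ S) (hS : ¬ A ≤ S) : d ∈ Subgroup.zpowers c := by
  by_contra h
  exact hS (hW.le_of_mem_of_mem hc hc1 hd h hcS hdS)

theorem zpowers_symm (hW : Ward A G p) [Finite X] {c d : X} (hc : c ∈ A) (hc1 : c ≠ 1) (hd : d ∈ A)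
    (hd1 : d ≠ 1) (h : d ∈ Subgroup.zpowers c) : c ∈ Subgroup.zpowers d := by
  have hle : Subgroup.zpowers d ≤ Subgroup.zpowers c := Subgroup.zpowers_le.mpr h
  have : Subgroup.zpowers d = Subgroup.zpowers c :=
    Subgroup.eq_of_le_of_card_ge hle (by
      rw [Nat.card_zpowers, Nat.card_zpowers, hW.orderOf_eq hc hc1, hW.orderOf_eq hd hd1])
  rw [this]
  exact Subgroup.mem_zpowers c

/-- Every element of `A` is `c^i d^j`. -/
theorem decomp (hW : Ward A G p) [Finite X] {c d : X} (hc : c ∈ A) (hc1 : c ≠ 1) (hd : d ∈ A)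
    (hdc : d ∉ Subgroup.zpowers c) {a : X} (ha : a ∈ A) : ∃ i j : ℤ, a = c ^ i * d ^ j := by
  have hcomm : Commute c d := hW.comm c hc d hd
  let T : Subgroup X :=
    { carrier := {x | ∃ i j : ℤ, x = c ^ i * d ^ j}
      mul_mem' := by
        rintro x y ⟨i, j, rfl⟩ ⟨k, l, rfl⟩
        refine ⟨i + k, j + l, ?_⟩
        have h1 : d ^ j * c ^ k = c ^ k * d ^ j := ((hcomm.zpow_zpow k j).symm).eq
        rw [zpow_add, zpow_add]
        calc c ^ i * d ^ j * (c ^ k * d ^ l) = c ^ i * (d ^ j * c ^ k) * d ^ l := by group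
          _ = c ^ i * (c ^ k * d ^ j) * d ^ l := by rw [h1]
          _ = c ^ i * c ^ k * (d ^ j * d ^ l) := by group
      one_mem' := ⟨0, 0, by simp⟩
      inv_mem' := by
        rintro x ⟨i, j, rfl⟩
        refine ⟨-i, -j, ?_⟩
        have h1 : d ^ (-j) * c ^ (-i) = c ^ (-i) * d ^ (-j) := ((hcomm.zpow_zpow (-i) (-j)).symm).eq
        rw [mul_inv_rev, ← zpow_neg, ← zpow_neg, h1] }
  have hcT : c ∈ T := ⟨1, 0, by simp⟩
  have hdT : d ∈ T := ⟨0, 1, by simp⟩
  exact hW.le_of_mem_of_mem hc hc1 hd hdc hcT hdT ha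

/-- The generation theorem. -/
theorem le_of_centralizer (hW : Ward A G p) [Finite X] {K T : Subgroup X}
    (hKA : A ≤ Subgroup.normalizer (K : Set X)) (hcop : (Nat.card A).Coprime (Nat.card K))
    (hT : ∀ c ∈ A, c ≠ 1 → K ⊓ Subgroup.centralizer ({c} : Set X) ≤ T) : K ≤ T := by
  rw [← Generation.iSup_cocyclic_eq A K hW.isMulCommutative hKA hcop]
  refine iSup₂_le fun B hB => ?_
  obtain ⟨hBA, a, ha, hBa⟩ := hB
  have hB1 : B ≠ ⊥ := by
    rintro rfl
    rw [bot_sup_eq] at hBa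
    obtain ⟨d, hd, hd2⟩ := hW.exists_not_mem ha
    exact hd2 (hBa ▸ hd)
  obtain ⟨⟨c, hc⟩, hc1'⟩ := Subgroup.ne_bot_iff_exists_ne_one.mp hB1
  have hc1 : c ≠ 1 := fun h => hc1' (Subtype.ext h)
  refine le_trans (inf_le_inf_left _ ?_) (hT c (hBA hc) hc1)
  exact Subgroup.centralizer_le (by simpa using hc)

/-- `C_K(A) = 1` and coprimality: anything fixed modulo `N` lies in `N`. -/
theorem lift (hW : Ward A G p) [Finite X] {K N : Subgroup X} (hKG : K ≤ G)
    (hKA : A ≤ Subgroup.normalizer (K : Set X)) (hNK : N ≤ K)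
    (hNA : A ≤ Subgroup.normalizer (N : Set X)) {t : X} (htK : t ∈ K)
    (ht : ∀ a ∈ A, t⁻¹ * (a * t * a⁻¹) ∈ N) : t ∈ N := by
  obtain ⟨c, hc, hc2⟩ := Coset.exists_centralizer_mem_coset hKA (hW.coprime hKG) (Or.inl hW.solvA)
    hNK hNA t htK ht
  have hc1 : c = 1 := by
    refine hW.fpf c (hKG hc.1) ?_
    intro a ha
    have := Subgroup.mem_centralizer_iff.mp hc.2 a ha
    rw [this, mul_assoc, mul_inv_cancel, mul_one]
  rw [hc1, mul_one] at hc2
  simpa using N.inv_mem hc2

/-- The same with only two generators of `A` checked. -/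
theorem lift₂ (hW : Ward A G p) [Finite X] {K N : Subgroup X} (hKG : K ≤ G)
    (hKA : A ≤ Subgroup.normalizer (K : Set X)) (hNK : N ≤ K)
    (hNA : A ≤ Subgroup.normalizer (N : Set X)) {t c d : X} (htK : t ∈ K)
    (hc : c ∈ A) (hc1 : c ≠ 1) (hd : d ∈ A) (hdc : d ∉ Subgroup.zpowers c)
    (h1 : t⁻¹ * (c * t * c⁻¹) ∈ N) (h2 : t⁻¹ * (d * t * d⁻¹) ∈ N) : t ∈ N := by
  refine hW.lift hKG hKA hNK hNA htK ?_
  have hle : A ≤ cosetStab N t := hW.le_of_mem_of_mem hc hc1 hd hdc ⟨hNA hc, h1⟩ ⟨hNA hd, h2⟩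
  intro a ha
  exact (hle ha).2

/-- Centralisers of nonidentity elements of `A` in `G` are nilpotent (Thompson). -/
theorem nilpotent_centralizer (hW : Ward A G p) [Finite X] {c : X} (hc : c ∈ A) (hc1 : c ≠ 1) :
    Group.IsNilpotent ↥(G ⊓ Subgroup.centralizer ({c} : Set X)) := by
  classical
  obtain ⟨d, hd, hdc⟩ := hW.exists_not_mem hc
  set H : Subgroup X := G ⊓ Subgroup.centralizer ({c} : Set X) with hH
  have hmemC : ∀ {x : X}, x ∈ Subgroup.centralizer ({c} : Set X) ↔ c * x = x * c := by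
    intro x
    rw [Subgroup.mem_centralizer_singleton_iff]
    exact eq_comm
  have hconj : ∀ e ∈ A, ∀ x ∈ H, e * x * e⁻¹ ∈ H := by
    intro e he x hx
    refine ⟨conj_mem_of_norm hW.norm he hx.1, hmemC.mpr ?_⟩
    have h1 : c * x = x * c := hmemC.mp hx.2
    have h2 : c * e = e * c := hW.comm c hc e he
    have h3 : e⁻¹ * c = c * e⁻¹ := by
      rw [eq_mul_inv_iff_mul_eq, mul_assoc, h2, ← mul_assoc, inv_mul_cancel, one_mul]
    calc c * (e * x * e⁻¹) = (c * e) * x * e⁻¹ := by group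
      _ = e * (c * x) * e⁻¹ := by rw [h2]; group
      _ = e * x * (c * e⁻¹) := by rw [h1]; group
      _ = e * x * (e⁻¹ * c) := by rw [h3]
      _ = e * x * e⁻¹ * c := by group
  let φ : H ≃* H :=
    { toFun := fun x => ⟨d * x * d⁻¹, hconj d hd x x.2⟩
      invFun := fun x => ⟨d⁻¹ * x * d, by
        have := hconj d⁻¹ (A.inv_mem hd) x x.2
        simpa using this⟩
      left_inv := fun x => by
        apply Subtype.ext
        simp only
        group
      right_inv := fun x => by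
        apply Subtype.ext
        simp only
        group
      map_mul' := fun x y => by
        apply Subtype.ext
        simp only [Subgroup.coe_mul]
        group }
  have hφ : ∀ x : H, ((φ x : H) : X) = d * x * d⁻¹ := fun x => rfl
  refine Cfsg.Agent.Lib.Thompson.Main.thompson_nilpotent hW.prime (Nat.card H) H φ rfl ?_ ?_
  · intro g hg
    apply Subtype.ext
    have h1 : d * (g : X) * d⁻¹ = g := by rw [← hφ, hg]
    refine hW.fpf g g.2.1 ?_
    intro a ha
    have hle : A ≤ Subgroup.centralizer ({(g : X)} : Set X) := by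
      refine hW.le_of_mem_of_mem hc hc1 hd hdc ?_ ?_
      · rw [Subgroup.mem_centralizer_singleton_iff]
        exact (hmemC.mp g.2.2)
      · rw [Subgroup.mem_centralizer_singleton_iff]
        rw [mul_inv_eq_iff_eq_mul] at h1
        exact h1
    have h2 := hle ha
    rw [Subgroup.mem_centralizer_singleton_iff] at h2
    rw [mul_inv_eq_iff_eq_mul]
    exact h2
  · intro g
    have key : ∀ n : ℕ, ((φ^[n] g : H) : X) = d ^ n * g * (d ^ n)⁻¹ := by
      intro n
      induction n with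
      | zero => simp
      | succ n ih =>
        rw [Function.iterate_succ_apply', hφ, ih, pow_succ']
        group
    apply Subtype.ext
    rw [key, hW.pow d hd]
    simp

/-- Elements of coprime orders in `C_G(c)` commute. -/
theorem commute_of_coprime (hW : Ward A G p) [Finite X] {c x y : X} (hc : c ∈ A) (hc1 : c ≠ 1)
    (hx : x ∈ G ⊓ Subgroup.centralizer ({c} : Set X)) (hy : y ∈ G ⊓ Subgroup.centralizer ({c} : Set X))
    (hcop : (orderOf x).Coprime (orderOf y)) : x * y = y * x := by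
  haveI := hW.nilpotent_centralizer hc hc1
  have h1 : Commute (⟨x, hx⟩ : ↥(G ⊓ Subgroup.centralizer ({c} : Set X))) ⟨y, hy⟩ :=
    Cfsg.Agent.Lib.Nilpotent.Elements.commute_of_coprime_orderOf (by
      rwa [Subgroup.orderOf_mk, Subgroup.orderOf_mk])
  exact congrArg Subtype.val h1.eq

theorem centralizer_norm (hW : Ward A G p) {c : X} (hc : c ∈ A) :
    A ≤ Subgroup.normalizer ((Subgroup.centralizer ({c} : Set X) : Subgroup X) : Set X) := by
  intro e he
  have hmemC : ∀ {x : X}, x ∈ Subgroup.centralizer ({c} : Set X) ↔ c * x = x * c := by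
    intro x
    rw [Subgroup.mem_centralizer_singleton_iff]
    exact eq_comm
  have key : ∀ e ∈ A, ∀ x ∈ Subgroup.centralizer ({c} : Set X),
      e * x * e⁻¹ ∈ Subgroup.centralizer ({c} : Set X) := by
    intro e he x hx
    refine hmemC.mpr ?_
    have h1 : c * x = x * c := hmemC.mp hx
    have h2 : c * e = e * c := hW.comm c hc e he
    have h3 : e⁻¹ * c = c * e⁻¹ := by
      rw [eq_mul_inv_iff_mul_eq, mul_assoc, h2, ← mul_assoc, inv_mul_cancel, one_mul]
    calc c * (e * x * e⁻¹) = (c * e) * x * e⁻¹ := by group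
      _ = e * (c * x) * e⁻¹ := by rw [h2]; group
      _ = e * x * (c * e⁻¹) := by rw [h1]; group
      _ = e * x * (e⁻¹ * c) := by rw [h3]
      _ = e * x * e⁻¹ * c := by group
  refine mem_norm_of_conj (key e he) ?_
  intro x hx
  have := key e⁻¹ (A.inv_mem he) x hx
  simpa using this

/-- Passing to quotients. -/
theorem map (hW : Ward A G p) [Finite X] {M : Subgroup X} [hM : M.Normal] (hMG : M ≤ G) :
    Ward (A.map (QuotientGroup.mk' M)) (G.map (QuotientGroup.mk' M)) p where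
  prime := hW.prime
  comm := by
    rintro _ ⟨a, ha, rfl⟩ _ ⟨b, hb, rfl⟩
    rw [← map_mul, ← map_mul, hW.comm a ha b hb]
  pow := by
    rintro _ ⟨a, ha, rfl⟩
    rw [← map_pow, hW.pow a ha, map_one]
  card := by
    rw [← hW.card]
    have hinj : Set.InjOn (QuotientGroup.mk' M) (A : Set X) := by
      intro a ha b hb hab
      have h1 : a⁻¹ * b ∈ M := QuotientGroup.eq.mp hab
      have h2 : a⁻¹ * b ∈ A := A.mul_mem (A.inv_mem ha) hb
      have h3 : (Nat.card A).Coprime (Nat.card M) := hW.coprime hMG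
      have h4 := Coset.inf_eq_bot_of_coprime h3
      have h5 : a⁻¹ * b ∈ A ⊓ M := ⟨h2, h1⟩
      rw [h4, Subgroup.mem_bot] at h5
      exact (inv_mul_eq_one.mp h5)
    have h6 : ((A.map (QuotientGroup.mk' M) : Subgroup (X ⧸ M)) : Set (X ⧸ M)) =
        (QuotientGroup.mk' M) '' (A : Set X) := rfl
    rw [← SetLike.coe_sort_coe, ← SetLike.coe_sort_coe A, h6, Nat.card_coe_set_eq, Nat.card_coe_set_eq]
    exact Set.InjOn.ncard_image hinj
  norm := by
    rintro _ ⟨a, ha, rfl⟩
    refine mem_norm_of_conj ?_ ?_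
    · rintro _ ⟨g, hg, rfl⟩
      exact ⟨a * g * a⁻¹, conj_mem_of_norm hW.norm ha hg, by simp⟩
    · rintro _ ⟨g, hg, rfl⟩
      exact ⟨a⁻¹ * g * a, conj_inv_mem_of_norm hW.norm ha hg, by simp⟩
  cop := fun h => hW.cop (h.trans (Subgroup.card_map_dvd _ _))
  solv := by
    haveI := hW.solv
    exact Group.isSolvable_of_surjective ((QuotientGroup.mk' M).subgroupMap_surjective G)
  fpf := by
    rintro _ ⟨t, ht, rfl⟩ hfix
    have hMn : A ≤ Subgroup.normalizer (M : Set X) := by
      intro a _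
      exact mem_norm_of_conj (fun x hx => hM.conj_mem x hx a) (fun x hx => by
        simpa using hM.conj_mem x hx a⁻¹)
    have h1 : t ∈ M := by
      refine hW.lift le_rfl hW.norm hMG hMn ht ?_
      intro a ha
      have h2 := hfix _ ⟨a, ha, rfl⟩
      simp only [← map_mul, ← map_inv] at h2
      exact (QuotientGroup.eq.mp h2.symm)
    exact (QuotientGroup.eq_one_iff t).mpr h1

end Ward

end Cfsg.Agent.Lib.Ward
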