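import Mathlib
import Cfsg.Agent.Lib.Ward.Rep
import Cfsg.Agent.Lib.Ward.Struct

/-!
# Weights under the action of `A`: the key facts behind Ward's theorem

* `fix_of_centralizer`: `C_Q(c)` acts trivially on `C_W(c)`;
* `exists_stab`, `not_le_stab`: a nontrivial weight has a stabiliser of order `p` in `A`;
* `fix_of_not_stab`: a nontrivial weight vanishes on `C_K(c)` when `c` does not fix it.
-/

set_option autoImplicit false
set_option linter.unusedSectionVars false
set_option linter.style.haveILetI false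
set_option linter.dupNamespace false

namespace Cfsg.Agent.Lib.Ward

universe u

variable {X : Type u} [Group X] {k : Type*} [Field k] {W : Type*} [AddCommGroup W] [Module k W]

/-- The stabiliser of a weight on `K`. -/
def wtStab (K : Subgroup X) (lam : X → k) : Subgroup X where
  carrier := {g | g ∈ Subgroup.normalizer (K : Set X) ∧ ∀ y ∈ K, lam (g⁻¹ * y * g) = lam y}
  mul_mem' := by
    rintro g h ⟨hg1, hg2⟩ ⟨hh1, hh2⟩
    refine ⟨mul_mem hg1 hh1, fun y hy => ?_⟩
    have e : (g * h)⁻¹ * y * (g * h) = h⁻¹ * (g⁻¹ * y * g) * h := by group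
    have hz : g⁻¹ * y * g ∈ K := conj_inv_mem_of_norm le_rfl hg1 hy
    rw [e, hh2 _ hz, hg2 y hy]
  one_mem' := ⟨one_mem _, fun y _ => by simp⟩
  inv_mem' := by
    rintro g ⟨hg1, hg2⟩
    refine ⟨inv_mem hg1, fun y hy => ?_⟩
    have hz : g * y * g⁻¹ ∈ K := conj_mem_of_norm le_rfl hg1 hy
    have := hg2 _ hz
    have e : g⁻¹ * (g * y * g⁻¹) * g = y := by group
    rw [e] at this
    rw [inv_inv]
    exact this.symm

theorem mem_wtStab {K : Subgroup X} {lam : X → k} {g : X} :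
    g ∈ wtStab K lam ↔ g ∈ Subgroup.normalizer (K : Set X) ∧ ∀ y ∈ K, lam (g⁻¹ * y * g) = lam y :=
  Iff.rfl

/-- The stabiliser of a vector. -/
def vecStab (ρ : X →* Module.End k W) (w : W) : Subgroup X where
  carrier := {g | ρ g w = w}
  mul_mem' := by
    intro g h hg hh
    simp only [Set.mem_setOf_eq] at *
    rw [rho_mul_apply, hh, hg]
  one_mem' := rho_one_apply ρ w
  inv_mem' := by
    intro g hg
    simp only [Set.mem_setOf_eq] at *
    conv_lhs => rw [← hg]
    exact rho_inv_apply ρ g w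

theorem mem_vecStab {ρ : X →* Module.End k W} {w : W} {g : X} : g ∈ vecStab ρ w ↔ ρ g w = w := Iff.rfl

/-- The fixed space of one element. -/
def fixSub (ρ : X →* Module.End k W) (c : X) : Submodule k W := LinearMap.ker (ρ c - 1)

theorem mem_fixSub {ρ : X →* Module.End k W} {c : X} {w : W} : w ∈ fixSub ρ c ↔ ρ c w = w := by
  simp [fixSub, LinearMap.mem_ker, sub_eq_zero]

/-- An element all of whose conjugates ... : if `g ^ n = 1`, `g ^ m ∈ S` and `m, n` coprime then
`g ∈ S`. -/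
theorem mem_of_pow_mem {S : Subgroup X} {g : X} {m n : ℕ} (hg : g ^ n = 1) (hm : g ^ m ∈ S)
    (hc : m.Coprime n) : g ∈ S := by
  have h1 : ((m.gcd n : ℕ) : ℤ) = m * m.gcdA n + n * m.gcdB n := Nat.gcd_eq_gcd_ab m n
  rw [hc.gcd_eq_one, Nat.cast_one] at h1
  have h2 : g = (g ^ m) ^ (m.gcdA n) * (g ^ n) ^ (m.gcdB n) := by
    rw [← zpow_natCast, ← zpow_natCast, ← zpow_mul, ← zpow_mul, ← zpow_add, ← h1, zpow_one]
  rw [h2, hg, one_zpow, mul_one]
  exact S.zpow_mem hm _

/-- Distinct powers of a non-stabilising element carry distinct weights. -/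
theorem wtConj_pow_ne {K : Subgroup X} {lam : X → k} {g : X} {p : ℕ} (hp : p.Prime) (hg : g ^ p = 1)
    (hgK : g ∈ Subgroup.normalizer (K : Set X)) (hne : g ∉ wtStab K lam) :
    ∀ i ∈ Finset.range p, ∀ j ∈ Finset.range p, i ≠ j →
      ∃ y ∈ K, wtConj (g ^ i) lam y ≠ wtConj (g ^ j) lam y := by
  have key : ∀ i j : ℕ, i < j → j < p → ∃ y ∈ K, wtConj (g ^ i) lam y ≠ wtConj (g ^ j) lam y := by
    intro i j hij hjp
    by_contra hcon
    push Not at hcon
    apply hne
    have hmK : ∀ m : ℕ, g ^ m ∈ Subgroup.normalizer (K : Set X) := fun m => pow_mem hgK m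
    obtain ⟨m, rfl⟩ : ∃ m, j = i + m := ⟨j - i, by omega⟩
    have hm0 : m ≠ 0 := by omega
    have hmp : m < p := by omega
    have hstab : g ^ m ∈ wtStab K lam := by
      refine ⟨hmK m, fun y hy => ?_⟩
      have hy' : g ^ i * y * (g ^ i)⁻¹ ∈ K := conj_mem_of_norm le_rfl (hmK i) hy
      have := hcon _ hy'
      simp only [wtConj] at this
      have e1 : (g ^ i)⁻¹ * (g ^ i * y * (g ^ i)⁻¹) * g ^ i = y := by group
      have e2 : (g ^ (i + m))⁻¹ * (g ^ i * y * (g ^ i)⁻¹) * g ^ (i + m) = (g ^ m)⁻¹ * y * g ^ m := by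
        rw [pow_add]; group
      rw [e1, e2] at this
      exact this.symm
    have hcop : m.Coprime p := by
      refine Nat.Coprime.symm ((Nat.Prime.coprime_iff_not_dvd hp).mpr ?_)
      intro h
      exact absurd (Nat.le_of_dvd (Nat.pos_of_ne_zero hm0) h) (by omega)
    exact mem_of_pow_mem hg hstab hcop
  intro i hi j hj hij
  rw [Finset.mem_range] at hi hj
  rcases lt_or_gt_of_ne hij with h | h
  · exact key i j h hj
  · obtain ⟨y, hy, hne'⟩ := key j i h hi
    exact ⟨y, hy, hne'.symm⟩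

theorem sum_pow_eq_zero_imp {ρ : X →* Module.End k W} {K : Subgroup X} {lam : X → k} {g : X} {p : ℕ}
    (hp : p.Prime) (hg : g ^ p = 1)
    (hgK : g ∈ Subgroup.normalizer (K : Set X)) (hne : g ∉ wtStab K lam) {v : W}
    (hv : IsWt ρ K lam v) (hs : ∑ i ∈ Finset.range p, ρ (g ^ i) v = 0) : v = 0 := by
  have hgK' : ∀ i : ℕ, ∀ y ∈ K, (g ^ i)⁻¹ * y * g ^ i ∈ K := fun i y hy =>
    conj_inv_mem_of_norm le_rfl (pow_mem hgK i) hy
  have := eq_zero_of_sum_eq_zero (ρ := ρ) (K := K) (Finset.range p) (fun i => wtConj (g ^ i) lam)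
    (wtConj_pow_ne hp hg hgK hne) (fun i => ρ (g ^ i) v)
    (fun i _ => hv.conj (hgK' i)) hs 0 (Finset.mem_range.mpr hp.pos)
  simpa [rho_one_apply] using this

theorem orbit_sum_fixed (ρ : X →* Module.End k W) {d : X} {p : ℕ} (hd : d ^ p = 1) (w : W) :
    ρ d (∑ i ∈ Finset.range p, ρ (d ^ i) w) = ∑ i ∈ Finset.range p, ρ (d ^ i) w := by
  have h1 : ∀ i, ρ d (ρ (d ^ i) w) = ρ (d ^ (i + 1)) w := fun i => by
    rw [← rho_mul_apply, pow_succ']
  rw [map_sum]
  simp only [h1]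
  have h2 := Finset.sum_range_succ (fun i => ρ (d ^ i) w) p
  have h3 := Finset.sum_range_succ' (fun i => ρ (d ^ i) w) p
  rw [h2, hd] at h3
  simp only [pow_zero] at h3
  exact (add_right_cancel h3).symm

theorem exists_last_lcs {S : Subgroup X} (hS : Group.IsNilpotent S) (ρ : X →* Module.End k W)
    (U : Submodule k W) (ht : ¬ ∀ y ∈ S, ∀ w ∈ U, ρ y w = w) :
    ∃ n, (¬ ∀ y ∈ S.lowerCentralSeries n, ∀ w ∈ U, ρ y w = w) ∧
      ∀ y ∈ S.lowerCentralSeries (n + 1), ∀ w ∈ U, ρ y w = w := by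
  classical
  obtain ⟨m, hm⟩ := (Subgroup.isNilpotent_iff_lowerCentralSeries S).mp hS
  have hex : ∃ m, ∀ y ∈ S.lowerCentralSeries m, ∀ w ∈ U, ρ y w = w := by
    refine ⟨m, fun y hy w _ => ?_⟩
    rw [hm, Subgroup.mem_bot] at hy
    rw [hy, rho_one_apply]
  have h0 : Nat.find hex ≠ 0 := by
    intro h
    have := Nat.find_spec hex
    rw [h] at this
    exact ht this
  obtain ⟨n, hn⟩ := Nat.exists_eq_succ_of_ne_zero h0
  refine ⟨n, ?_, ?_⟩
  · exact Nat.find_min hex (by omega)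
  · have := Nat.find_spec hex
    rwa [hn] at this

open scoped commutatorElement in
theorem comm_of_lcs {ρ : X →* Module.End k W} {S : Subgroup X} {n : ℕ} {U : Submodule k W}
    (hst : ∀ y ∈ S, ∀ w ∈ U, ρ y w ∈ U)
    (h : ∀ y ∈ S.lowerCentralSeries (n + 1), ∀ w ∈ U, ρ y w = w)
    {y z : X} (hy : y ∈ S.lowerCentralSeries n) (hz : z ∈ S) {w : W} (hw : w ∈ U) :
    ρ y (ρ z w) = ρ z (ρ y w) := by
  have hyS : y ∈ S := Subgroup.lowerCentralSeries_le_self S n hy
  have h1 : ⁅y, z⁆ ∈ S.lowerCentralSeries (n + 1) := Subgroup.commutator_mem_commutator hy hz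
  have h2 := h _ h1 (ρ z (ρ y w)) (hst z hz _ (hst y hyS w hw))
  rw [← rho_mul_apply, ← rho_mul_apply, ← rho_mul_apply] at h2
  rw [← rho_mul_apply, ← rho_mul_apply, ← h2]
  congr 2
  simp only [commutatorElement_def]
  group

theorem card_ne_zero_of_le [Finite X] {K L : Subgroup X} (hKL : K ≤ L) (hL : (Nat.card L : k) ≠ 0) :
    (Nat.card K : k) ≠ 0 := by
  obtain ⟨m, hm⟩ := Subgroup.card_dvd_of_le hKL
  intro h
  apply hL
  rw [hm, Nat.cast_mul, h, zero_mul]

section

variable [Finite X] {ρ : X →* Module.End k W} {A G : Subgroup X} {p : ℕ}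

namespace Ward

/-- A weight fixed by all of `A` is trivial. -/
theorem wt_eq_one (hW : Ward A G p) {K : Subgroup X} {lam : X → k} {w : W} (hKG : K ≤ G)
    (hKA : A ≤ Subgroup.normalizer (K : Set X)) (hw : w ≠ 0) (h : IsWt ρ K lam w)
    (hS : A ≤ wtStab K lam) : ∀ y ∈ K, lam y = 1 := by
  set N : Subgroup X := K ⊓ vecStab ρ w with hN
  have hmem : ∀ y, y ∈ N ↔ y ∈ K ∧ lam y = 1 := by
    intro y
    refine and_congr_right fun hy => ?_
    exact h.eq_iff_fix hw hy
  have hNA : A ≤ Subgroup.normalizer (N : Set X) := by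
    intro a ha
    refine mem_norm_of_conj ?_ ?_
    · intro y hy
      obtain ⟨hy1, hy2⟩ := (hmem y).mp hy
      refine (hmem _).mpr ⟨conj_mem_of_norm hKA ha hy1, ?_⟩
      have := (hS (A.inv_mem ha)).2 y hy1
      rw [inv_inv] at this
      rw [this, hy2]
    · intro y hy
      obtain ⟨hy1, hy2⟩ := (hmem y).mp hy
      refine (hmem _).mpr ⟨conj_inv_mem_of_norm hKA ha hy1, ?_⟩
      rw [(hS ha).2 y hy1, hy2]
  intro t ht
  have hmemN : t ∈ N := by
    refine hW.lift hKG hKA inf_le_left hNA ht ?_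
    intro a ha
    have hat : a * t * a⁻¹ ∈ K := conj_mem_of_norm hKA ha ht
    refine (hmem _).mpr ⟨K.mul_mem (K.inv_mem ht) hat, ?_⟩
    rw [h.map_mul hw (K.inv_mem ht) hat]
    have := (hS (A.inv_mem ha)).2 t ht
    rw [inv_inv] at this
    rw [this, ← h.map_mul hw (K.inv_mem ht) ht, inv_mul_cancel, h.map_one hw]
  exact ((hmem t).mp hmemN).2

theorem isNilpotent_of_le_centralizer (hW : Ward A G p) {c : X} (hc : c ∈ A) (hc1 : c ≠ 1)
    {B : Subgroup X} (hBG : B ≤ G) (hBc : B ≤ Subgroup.centralizer ({c} : Set X)) :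
    Group.IsNilpotent B := by
  haveI := hW.nilpotent_centralizer hc hc1
  have hle : B ≤ G ⊓ Subgroup.centralizer ({c} : Set X) := le_inf hBG hBc
  have h1 := Subgroup.isNilpotent (B.subgroupOf (G ⊓ Subgroup.centralizer ({c} : Set X)))
  exact (Group.isNilpotent_congr (Subgroup.subgroupOfEquivOfLe hle)).1 h1

variable [IsAlgClosed k] [FiniteDimensional k W]

/-- **Key fact F1.** `C_Q(c)` acts trivially on `C_W(c)`. -/
theorem fix_of_centralizer (hW : Ward A G p) (hA0 : ∀ w : W, (∀ a ∈ A, ρ a w = w) → w = 0)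
    {c : X} (hc : c ∈ A) (hc1 : c ≠ 1) {B : Subgroup X} (hBG : B ≤ G)
    (hBc : B ≤ Subgroup.centralizer ({c} : Set X)) (hBA : A ≤ Subgroup.normalizer (B : Set X))
    (hBk : (Nat.card B : k) ≠ 0) {w : W} (hw : ρ c w = w) {y : X} (hy : y ∈ B) : ρ y w = w := by
  classical
  have hBnil := hW.isNilpotent_of_le_centralizer hc hc1 hBG hBc
  set U : Submodule k W := fixSub ρ c with hU
  have hcomm_c : ∀ x ∈ B, c * x = x * c := fun x hx => by
    have := hBc hx
    rw [Subgroup.mem_centralizer_singleton_iff] at this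
    exact this.symm
  have hBst : ∀ x ∈ B, ∀ v ∈ U, ρ x v ∈ U := by
    intro x hx v hv
    rw [hU, mem_fixSub] at *
    rw [← rho_mul_apply, hcomm_c x hx, rho_mul_apply, hv]
  by_contra hcon
  have ht : ¬ ∀ y ∈ B, ∀ w ∈ U, ρ y w = w := by
    intro h
    exact hcon (h y hy w (mem_fixSub.mpr hw))
  obtain ⟨n, hn1, hn2⟩ := exists_last_lcs hBnil ρ U ht
  set Y : Subgroup X := B.lowerCentralSeries n with hY
  have hYB : Y ≤ B := Subgroup.lowerCentralSeries_le_self B n
  have hYA : A ≤ Subgroup.normalizer (Y : Set X) := lcs_norm hBA n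
  have hYk : (Nat.card Y : k) ≠ 0 := card_ne_zero_of_le hYB hBk
  have hYst : ∀ y ∈ Y, ∀ v ∈ U, ρ y v ∈ U := fun y hy => hBst y (hYB hy)
  have hYcomm : ∀ y ∈ Y, ∀ z ∈ Y, ∀ v ∈ U, ρ y (ρ z v) = ρ z (ρ y v) :=
    fun y hy z hz v hv => comm_of_lcs hBst hn2 hy (hYB hz) hv
  push Not at hn1
  obtain ⟨x, hx, v, hv, hxv⟩ := hn1
  obtain ⟨u, hu, lam, hlam, hxu⟩ := exists_wt_of_ne (f := ρ x) hYk hYst hYcomm
    (fun h => hxv (h v hv))
  have hu0 : u ≠ 0 := by
    rintro rfl
    simp at hxu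
  have hcu : ρ c u = u := mem_fixSub.mp hu
  obtain ⟨d, hd, hdc⟩ := hW.exists_not_mem hc
  by_cases hdS : d ∈ wtStab Y lam
  · have hcS : c ∈ wtStab Y lam := by
      refine ⟨hYA hc, fun z hz => ?_⟩
      have := hcomm_c z (hYB hz)
      have e : c⁻¹ * z * c = z := by
        rw [mul_assoc, ← this, ← mul_assoc, inv_mul_cancel, one_mul]
      rw [e]
    have hle := hW.le_of_mem_of_mem hc hc1 hd hdc hcS hdS
    have h1 := hW.wt_eq_one (hYB.trans hBG) hYA hu0 hlam hle x hx
    exact hxu ((hlam.eq_iff_fix hu0 hx).mpr h1)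
  · set s := ∑ i ∈ Finset.range p, ρ (d ^ i) u with hs
    have hds : ρ d s = s := orbit_sum_fixed ρ (hW.pow d hd) u
    have hcs : ρ c s = s := by
      rw [hs, map_sum]
      refine Finset.sum_congr rfl fun i _ => ?_
      have hcd : Commute c (d ^ i) := Commute.pow_right (hW.comm c hc d hd) i
      rw [← rho_mul_apply, hcd.eq, rho_mul_apply, hcu]
    have hle : A ≤ vecStab ρ s := hW.le_of_mem_of_mem hc hc1 hd hdc hcs hds
    have hs0 : s = 0 := hA0 s (fun a ha => hle ha)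
    exact hu0 (sum_pow_eq_zero_imp hW.prime (hW.pow d hd) (hYA hd) hdS hlam hs0)

/-- A nonzero weight vector has a nontrivial stabiliser in `A`. -/
theorem exists_stab (hW : Ward A G p) (hA0 : ∀ w : W, (∀ a ∈ A, ρ a w = w) → w = 0)
    {K : Subgroup X} (hKA : A ≤ Subgroup.normalizer (K : Set X)) {lam : X → k} {w : W} (hw : w ≠ 0)
    (h : IsWt ρ K lam w) : ∃ c ∈ A, c ≠ 1 ∧ c ∈ wtStab K lam := by
  classical
  by_contra hcon
  push Not at hcon
  haveI := Fintype.ofFinite A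
  have hd : ∀ a ∈ (Finset.univ : Finset A), ∀ b ∈ (Finset.univ : Finset A), a ≠ b →
      ∃ y ∈ K, wtConj (a : X) lam y ≠ wtConj (b : X) lam y := by
    intro a _ b _ hab
    by_contra hc2
    push Not at hc2
    have hne : (b : X)⁻¹ * a ≠ 1 := by
      intro h1
      apply hab
      exact Subtype.ext (inv_mul_eq_one.mp h1).symm
    apply hcon _ (A.mul_mem (A.inv_mem b.2) a.2) hne
    refine ⟨hKA (A.mul_mem (A.inv_mem b.2) a.2), fun y hy => ?_⟩
    have hy' : (b : X) * y * (b : X)⁻¹ ∈ K := conj_mem_of_norm hKA b.2 hy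
    have := hc2 _ hy'
    simp only [wtConj] at this
    have e1 : ((b : X)⁻¹ * a)⁻¹ * y * ((b : X)⁻¹ * a) = (a : X)⁻¹ * ((b : X) * y * (b : X)⁻¹) * a := by
      group
    have e2 : (b : X)⁻¹ * ((b : X) * y * (b : X)⁻¹) * b = y := by group
    rw [e1, this, e2]
  set s : W := ∑ a : A, ρ (a : X) w with hs
  have hfix : ∀ b ∈ A, ρ b s = s := by
    intro b hb
    rw [hs, map_sum]
    have h1 : ∀ a : A, ρ b (ρ (a : X) w) = ρ (((⟨b, hb⟩ : A) * a : A) : X) w := fun a => by
      rw [← rho_mul_apply]; rfl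
    simp only [h1]
    exact Equiv.sum_comp (Equiv.mulLeft (⟨b, hb⟩ : A)) (fun a : A => ρ (a : X) w)
  have hs0 := hA0 s hfix
  have := eq_zero_of_sum_eq_zero (ρ := ρ) (K := K) (Finset.univ : Finset A)
    (fun a => wtConj (a : X) lam) hd (fun a => ρ (a : X) w)
    (fun a _ => h.conj (fun y hy => conj_inv_mem_of_norm hKA a.2 hy)) hs0 1 (Finset.mem_univ _)
  simp only [OneMemClass.coe_one, rho_one_apply] at this
  exact hw this

/-- A weight fixed by `A` is trivial, contrapositive. -/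
theorem not_le_stab (hW : Ward A G p) {K : Subgroup X} {lam : X → k} {w : W} (hKG : K ≤ G)
    (hKA : A ≤ Subgroup.normalizer (K : Set X)) (hw : w ≠ 0) (h : IsWt ρ K lam w)
    (hne : ∃ y ∈ K, lam y ≠ 1) : ¬ A ≤ wtStab K lam := by
  intro hS
  obtain ⟨y, hy, hy1⟩ := hne
  exact hy1 (hW.wt_eq_one hKG hKA hw h hS y hy)

/-- The central computation: if `c` does not stabilise `lam`, an element `y` of `C_B(c)` preserving
the weight space of `lam` acts trivially on it. -/
theorem fix_of_not_stab (hW : Ward A G p) (hA0 : ∀ w : W, (∀ a ∈ A, ρ a w = w) → w = 0)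
    {K : Subgroup X} (hKA : A ≤ Subgroup.normalizer (K : Set X)) {lam : X → k} {c : X} (hc : c ∈ A)
    (hcS : c ∉ wtStab K lam) {B : Subgroup X} (hBG : B ≤ G)
    (hBc : B ≤ Subgroup.centralizer ({c} : Set X)) (hBA : A ≤ Subgroup.normalizer (B : Set X))
    (hBk : (Nat.card B : k) ≠ 0) {y : X} (hy : y ∈ B) {w : W} (hw : IsWt ρ K lam w)
    (hyw : IsWt ρ K lam (ρ y w)) : ρ y w = w := by
  have hc1 : c ≠ 1 := by
    rintro rfl
    exact hcS (one_mem _)
  set s := ∑ i ∈ Finset.range p, ρ (c ^ i) w with hs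
  have hcs : ρ c s = s := orbit_sum_fixed ρ (hW.pow c hc) w
  have hys : ρ y s = s := hW.fix_of_centralizer hA0 hc hc1 hBG hBc hBA hBk hcs hy
  have hcy : c * y = y * c := by
    have := hBc hy
    rw [Subgroup.mem_centralizer_singleton_iff] at this
    exact this.symm
  have hsum : ∑ i ∈ Finset.range p, ρ (c ^ i) (ρ y w - w) = 0 := by
    simp only [map_sub]
    rw [Finset.sum_sub_distrib, ← hs, sub_eq_zero, ← hys, hs, map_sum]
    refine Finset.sum_congr rfl fun i _ => ?_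
    have hci : Commute (c ^ i) y := Commute.pow_left hcy i
    rw [← rho_mul_apply, ← rho_mul_apply, hci.eq]
  have := sum_pow_eq_zero_imp hW.prime (hW.pow c hc) (hKA hc) hcS (hyw.sub hw) hsum
  exact sub_eq_zero.mp this

/-- A nontrivial weight vanishes on `C_K(c)` if `c` does not stabilise it. -/
theorem wt_eq_one_of_not_stab (hW : Ward A G p) (hA0 : ∀ w : W, (∀ a ∈ A, ρ a w = w) → w = 0)
    {K : Subgroup X} (hKG : K ≤ G) (hKA : A ≤ Subgroup.normalizer (K : Set X))
    (hKk : (Nat.card K : k) ≠ 0) {lam : X → k} {c : X} (hc : c ∈ A)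
    (hcS : c ∉ wtStab K lam) {w : W} (hw0 : w ≠ 0) (hw : IsWt ρ K lam w) {y : X}
    (hy : y ∈ K ⊓ Subgroup.centralizer ({c} : Set X)) : lam y = 1 := by
  have h1 : ρ y w = w := by
    refine hW.fix_of_not_stab hA0 hKA hc hcS (B := K ⊓ Subgroup.centralizer ({c} : Set X))
      (inf_le_left.trans hKG) inf_le_right (norm_inf hKA (hW.centralizer_norm hc))
      (card_ne_zero_of_le inf_le_left hKk) hy hw ?_
    rw [hw y hy.1]
    exact hw.smul _
  exact (hw.eq_iff_fix hw0 hy.1).mp h1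

end Ward

end

end Cfsg.Agent.Lib.Ward
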